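import Groth.Agent.ProperFEt.Free
import Groth.Agent.LefEssSurj.Main
import Groth.Agent.W7Alg.Closed

/-!
Finite etale covers of the closed fibre of a proper scheme over a complete base extend.
-/

set_option autoImplicit false
set_option maxHeartbeats 1000000
set_option linter.style.haveILetI false
set_option backward.isDefEq.respectTransparency false
set_option backward.isDefEq.respectTransparency.types false
universe u

namespace Groth.Agent.ProperFEt

open CategoryTheory CategoryTheory.Limits AlgebraicGeometry TopologicalSpace Opposite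

noncomputable section

variable {A : Type u} [CommRing A] [IsNoetherianRing A] {I : Ideal A} [IsAdicComplete I A]

/-- Covers of the subscheme cut out by the ideal extend. -/
theorem essSurj_restrict_subscheme {X : Scheme.{u}} [X.Over (Spec (CommRingCat.of A))]
    [IsProper (X ↘ Spec (CommRingCat.of A))] {𝓘 : X.IdealSheafData}
    (h𝓘 : ∀ V : X.affineOpens, 𝓘.ideal V = I.map (W7Cech.secRing A V.1)) :
    (FEt.restrict 𝓘.subschemeι).EssSurj := by
  haveI : IsLocallyNoetherian X := LocallyOfFiniteType.isLocallyNoetherian (X ↘ Spec (CommRingCat.of A))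
  refine LefEssSurj.essSurj_restrict 𝓘 (fun G hG => homToFormal_coh h𝓘
    ⟨LocFree.isQCoh_of_isFinLocFree hG, LocFree.isFT_of_isFinLocFree hG⟩) fun 𝔐 h => ?_
  exact exists_finLocFree h𝓘 𝔐 h

/-- Covers of the closed fibre extend. -/
theorem essSurj_restrict_baseChange {X : Scheme.{u}} (f : X ⟶ Spec (CommRingCat.of A)) [IsProper f]
    {B : Type u} [CommRing B] (φ : A →+* B) (hφ : Function.Surjective φ) (hker : RingHom.ker φ = I) :
    (FEt.restrict (pullback.fst f (Spec.map (CommRingCat.ofHom φ)))).EssSurj := by
  letI : X.Over (Spec (CommRingCat.of A)) := ⟨f⟩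
  haveI : IsProper (X ↘ Spec (CommRingCat.of A)) := ‹IsProper f›
  haveI : IsClosedImmersion (Spec.map (CommRingCat.ofHom φ)) := IsClosedImmersion.spec_of_surjective _ hφ
  let p := pullback.fst f (Spec.map (CommRingCat.ofHom φ))
  have h𝓘 : ∀ V : X.affineOpens, p.ker.ideal V = I.map (W7Cech.secRing A V.1) := fun V => by
    rw [Scheme.Hom.ker_apply]
    exact (W7Alg.ker_app_baseChange φ hφ (IsPullback.of_hasPullback f (Spec.map (CommRingCat.ofHom φ))) V).trans
      (by rw [hker])
  haveI := essSurj_restrict_subscheme h𝓘
  haveI : IsIso p.toImage := inferInstance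
  let e : FEt.restrict p ≅ FEt.restrict p.ker.subschemeι ⋙ FEt.restrict p.toImage :=
    MorphismProperty.Over.pullbackComp p.toImage p.ker.subschemeι _ p.toImage_imageι.symm
  haveI : (FEt.restrict p.toImage).IsEquivalence := Groth.Agent.S0238.result p.toImage
  haveI : (FEt.restrict p.toImage).EssSurj := inferInstance
  exact Functor.essSurj_of_iso e.symm

end

end Groth.Agent.ProperFEt
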