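import Groth.Agent.ThickInv.Alg
import Mathlib.LinearAlgebra.Dimension.Constructions
import Mathlib.LinearAlgebra.FreeModule.StrongRankCondition
import Mathlib.LinearAlgebra.Dimension.OrzechProperty
import Mathlib.RingTheory.TensorProduct.Finite
import Mathlib.RingTheory.OrzechProperty

/-!
Modules free modulo all powers of an ideal are free.
-/

set_option autoImplicit false
set_option linter.style.haveILetI false
set_option backward.isDefEq.respectTransparency false

universe u

open TensorProduct

noncomputable section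

namespace Groth.Agent.ProperFEt

variable {R : Type u} [CommRing R] [IsLocalRing R] [IsNoetherianRing R] {N : Type u} [AddCommGroup N] [Module R N]
  [Module.Finite R N]

omit [IsLocalRing R] [IsNoetherianRing R] [Module.Finite R N] in
theorem exists_lift_one_tmul {S : Type u} [CommRing S] [Algebra R S] (hs : Function.Surjective (algebraMap R S))
    (t : S ⊗[R] N) : ∃ m : N, (1 : S) ⊗ₜ[R] m = t := by
  induction t using TensorProduct.induction_on with
  | zero => exact ⟨0, TensorProduct.tmul_zero _ _⟩
  | tmul s m =>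
    obtain ⟨r, rfl⟩ := hs s
    refine ⟨r • m, ?_⟩
    rw [TensorProduct.tmul_smul, TensorProduct.smul_tmul', Algebra.smul_def, mul_one]
  | add a b ha hb =>
    obtain ⟨x, hx⟩ := ha
    obtain ⟨y, hy⟩ := hb
    exact ⟨x + y, (TensorProduct.tmul_add _ _ _).trans (congrArg₂ (· + ·) hx hy)⟩

omit [IsNoetherianRing R] in
theorem span_top_of_reduction {S : Type u} [CommRing S] [Algebra R S] {K : Ideal R}
    (hK : K ≤ IsLocalRing.maximalIdeal R) (hs : Function.Surjective (algebraMap R S))
    (hk : RingHom.ker (algebraMap R S) = K) {ι : Type u} [Fintype ι] (b : Module.Basis ι S (S ⊗[R] N)) (v : ι → N)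
    (hv : ∀ i, (1 : S) ⊗ₜ[R] v i = b i) : ⊤ ≤ Submodule.span R (Set.range v) := by
  refine Submodule.le_of_le_smul_of_le_jacobson_bot Module.Finite.fg_top
    (show K ≤ Ideal.jacobson ⊥ by rw [IsLocalRing.jacobson_eq_maximalIdeal _ bot_ne_top]; exact hK) fun m _ => ?_
  choose r hr using fun i => hs (b.repr ((1 : S) ⊗ₜ[R] m) i)
  have h1 : (1 : S) ⊗ₜ[R] (m - ∑ i, r i • v i) = 0 := by
    rw [TensorProduct.tmul_sub, TensorProduct.tmul_sum, sub_eq_zero]
    refine (b.sum_repr ((1 : S) ⊗ₜ[R] m)).symm.trans (Finset.sum_congr rfl fun i _ => ?_)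
    rw [TensorProduct.tmul_smul, hv, ← hr, algebraMap_smul]
  rw [Submodule.mem_sup]
  exact ⟨_, Submodule.sum_mem _ fun i _ => Submodule.smul_mem _ _ (Submodule.subset_span ⟨i, rfl⟩), _,
    ThickInv.mem_smul_top_of_one_tmul_eq_zero hs hk h1, add_sub_cancel _ _⟩

omit [IsLocalRing R] [IsNoetherianRing R] [Module.Finite R N] in
theorem span_top_tmul {S : Type u} [CommRing S] [Algebra R S] (hs : Function.Surjective (algebraMap R S))
    {n : ℕ} (v : Fin n → N) (hv : ⊤ ≤ Submodule.span R (Set.range v)) :
    ⊤ ≤ Submodule.span S (Set.range fun i => (1 : S) ⊗ₜ[R] v i) := by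
  intro t _
  obtain ⟨m, rfl⟩ := exists_lift_one_tmul hs t
  obtain ⟨c, hc⟩ := (Submodule.mem_span_range_iff_exists_fun R).1 (hv (Submodule.mem_top (x := m)))
  refine (Submodule.mem_span_range_iff_exists_fun S).2 ⟨fun i => algebraMap R S (c i), ?_⟩
  rw [← hc, TensorProduct.tmul_sum]
  exact Finset.sum_congr rfl fun i _ => by rw [algebraMap_smul, TensorProduct.tmul_smul]

/-- free modulo all powers of an ideal implies free -/
theorem free_of_reductions (J : Ideal R) (hJ : J ≤ IsLocalRing.maximalIdeal R)
    (h : ∀ n : ℕ, ∃ (S : Type u) (_ : CommRing S) (_ : Algebra R S),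
      Function.Surjective (algebraMap R S) ∧ RingHom.ker (algebraMap R S) = J ^ (n + 1) ∧
        Module.Free S (S ⊗[R] N)) :
    Module.Free R N := by
  classical
  have hex : ∃ r, ∃ v : Fin r → N, ⊤ ≤ Submodule.span R (Set.range v) := by
    obtain ⟨r, v, hv⟩ := Module.Finite.exists_fin (R := R) (M := N)
    exact ⟨r, v, hv.ge⟩
  obtain ⟨v, hv⟩ := Nat.find_spec hex
  have hmin := fun (r : ℕ) (w : Fin r → N) (hw : ⊤ ≤ Submodule.span R (Set.range w)) =>
    Nat.find_le (h := hex) ⟨w, hw⟩
  have hli : LinearIndependent R v := by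
    refine Fintype.linearIndependent_iff.2 fun c hc i => ?_
    have hall : ∀ n, c i ∈ J ^ (n + 1) := fun n => by
      obtain ⟨S, _, _, hs, hk, hfree⟩ := h n
      haveI : Nontrivial S := by
        by_contra hn
        rw [not_nontrivial_iff_subsingleton] at hn
        refine (IsLocalRing.maximalIdeal.isMaximal R).ne_top (top_le_iff.1 fun x _ => hJ ?_)
        refine Ideal.pow_le_self (Nat.succ_ne_zero n) ?_
        rw [← hk, RingHom.mem_ker]
        exact Subsingleton.elim _ _
      haveI := hfree
      haveI : Module.Finite S (S ⊗[R] N) := Module.Finite.base_change R S N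
      haveI : Fintype (Module.Free.ChooseBasisIndex S (S ⊗[R] N)) := Fintype.ofFinite _
      let b := Module.Free.chooseBasis S (S ⊗[R] N)
      choose w hw using fun k => exists_lift_one_tmul (N := N) hs (b k)
      have hcard : Nat.find hex ≤ Module.finrank S (S ⊗[R] N) := by
        rw [Module.finrank_eq_card_basis b]
        refine hmin _ (w ∘ (Fintype.equivFin _).symm) ?_
        rw [Set.range_comp, (Fintype.equivFin _).symm.surjective.range_eq, Set.image_univ]
        exact span_top_of_reduction ((Ideal.pow_le_self (Nat.succ_ne_zero n)).trans hJ) hs hk b w hw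
      have hli' : LinearIndependent S fun k => (1 : S) ⊗ₜ[R] v k := by
        refine linearIndependent_of_top_le_span_of_card_le_finrank (span_top_tmul hs v hv) ?_
        rw [Fintype.card_fin]; exact hcard
      rw [← hk, RingHom.mem_ker]
      refine Fintype.linearIndependent_iff.1 hli' (fun k => algebraMap R S (c k)) ?_ i
      have : (1 : S) ⊗ₜ[R] ∑ k, c k • v k = 0 := by rw [hc, TensorProduct.tmul_zero]
      rw [TensorProduct.tmul_sum] at this
      rw [← this]
      exact Finset.sum_congr rfl fun k _ => by rw [algebraMap_smul, TensorProduct.tmul_smul]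
    have hbot := Ideal.iInf_pow_eq_bot_of_isLocalRing J
      (ne_top_of_le_ne_top (IsLocalRing.maximalIdeal.isMaximal R).ne_top hJ)
    rw [← Ideal.mem_bot, ← hbot, Ideal.mem_iInf]
    exact fun n => Ideal.pow_le_pow_right (Nat.le_succ n) (hall n)
  exact Module.Free.of_basis (Module.Basis.mk hli hv)

end Groth.Agent.ProperFEt
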