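import Groth.Agent.ProperFEt.Tower
import Groth.Agent.ProperFEt.FreeAlg
import Groth.Agent.RegDual.Scheme
import Groth.Agent.LocFree.Props
import Groth.Agent.CMFlat.RegImm
import Groth.Prelude.Def_LefX
import Mathlib.RingTheory.Spectrum.Prime.FreeLocus

/-!
A coherent module on a proper scheme over a complete base is locally free when its reductions are.
-/

set_option autoImplicit false
set_option maxHeartbeats 1000000
set_option linter.style.haveILetI false
set_option backward.isDefEq.respectTransparency false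
set_option backward.isDefEq.respectTransparency.types false
universe u

namespace Groth.Agent.ProperFEt

open CategoryTheory CategoryTheory.Limits AlgebraicGeometry TopologicalSpace Opposite

noncomputable section

theorem free_stalk_of_specializes {X : Scheme.{u}} [IsLocallyNoetherian X] {M : X.Modules} (hM : Coh.IsCoh M)
    {x z : X} (h : x ⤳ z) (hz : Module.Free (X.presheaf.stalk z) (M.presheaf.stalk z)) :
    Module.Free (X.presheaf.stalk x) (M.presheaf.stalk x) := by
  obtain ⟨U, hU, hzU⟩ := Groth.Agent.QC.exists_affine_mem z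
  have hxU : x ∈ U := h.mem_open U.2 hzU
  haveI : IsNoetherianRing Γ(X, U) := IsLocallyNoetherian.component_noetherian ⟨U, hU⟩
  haveI : Module.Finite Γ(X, U) Γ(M, U) := (Groth.Agent.QC.isCoh_iff_finite_sections.mp hM).2 ⟨U, hU⟩
  haveI : Module.FinitePresentation Γ(X, U) Γ(M, U) := Module.finitePresentation_of_finite _ _
  have key : ∀ y : X, ∀ hy : y ∈ U, (hU.primeIdealOf ⟨y, hy⟩ ∈ Module.freeLocus Γ(X, U) Γ(M, U) ↔
      Module.Free (X.presheaf.stalk y) (M.presheaf.stalk y)) := fun y hy => by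
    letI := (X.presheaf.germ U y hy).hom.toAlgebra
    haveI := hU.isLocalization_stalk ⟨y, hy⟩
    letI := Module.compHom (M.presheaf.stalk y) (X.presheaf.germ U y hy).hom
    obtain ⟨g, hg⟩ := LocFree.exists_stalkMap hU hM.1 hy
    haveI : IsScalarTower Γ(X, U) (X.presheaf.stalk y) (M.presheaf.stalk y) :=
      ⟨fun a c m => mul_smul ((X.presheaf.germ U y hy).hom a) c m⟩
    haveI := hg
    exact Module.mem_freeLocus_of_isLocalization (hU.primeIdealOf ⟨y, hy⟩) (X.presheaf.stalk y)
      (M.presheaf.stalk y) g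
  refine (key x hxU).1 (Specializes.mem_open (y := hU.primeIdealOf ⟨z, hzU⟩) ?_ Module.isOpen_freeLocus
    ((key z hzU).2 hz))
  refine hU.fromSpec.isOpenEmbedding.isInducing.specializes_iff.1 ?_
  exact (hU.fromSpec_primeIdealOf ⟨x, hxU⟩).symm ▸ (hU.fromSpec_primeIdealOf ⟨z, hzU⟩).symm ▸ h

variable {A : Type u} [CommRing A] {X : Scheme.{u}} [X.Over (Spec (CommRingCat.of A))] {I : Ideal A}
  {𝓘 : X.IdealSheafData} (h𝓘 : ∀ V : X.affineOpens, 𝓘.ideal V = I.map (W7Cech.secRing A V.1))

/-- The ideal of the base vanishes at the points of the closed fibre. -/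
theorem map_le_comap_maximal' {V : X.Opens} {x : X} (hx : x ∈ V)
    (h : ∀ a ∈ I, (X ↘ Spec (CommRingCat.of A)).base x ∉ PrimeSpectrum.basicOpen a) :
    I.map (W7Cech.secRing A V) ≤
      (IsLocalRing.maximalIdeal (X.presheaf.stalk x)).comap (X.presheaf.germ V x hx).hom := by
  rw [Ideal.map_le_iff_le_comap]
  intro a ha
  rw [Ideal.mem_comap, Ideal.mem_comap, IsLocalRing.mem_maximalIdeal, mem_nonunits_iff]
  intro hu
  let f := X ↘ Spec (CommRingCat.of A)
  have hm : x ∈ X.basicOpen (W7Cech.secRing A V a) := (Scheme.mem_basicOpen _ _ x hx).2 hu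
  rw [show W7Cech.secRing A V a = QC.resO X le_top (Coh.toGlobal f a) from rfl] at hm
  have h1 : x ∈ X.basicOpen (Coh.toGlobal f a) := ((Scheme.basicOpen_res _ _ _).le hm).2
  have h3 : X.basicOpen (Coh.toGlobal f a) = f ⁻¹ᵁ PrimeSpectrum.basicOpen a := by
    rw [← basicOpen_eq_of_affine (R := CommRingCat.of A) a, Scheme.preimage_basicOpen]
    rfl
  rw [h3] at h1
  exact h a ha h1

include h𝓘 in
theorem mem_support_of_le {x : X}
    (hx : ∀ a ∈ I, (X ↘ Spec (CommRingCat.of A)).base x ∉ PrimeSpectrum.basicOpen a) : x ∈ 𝓘.support := by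
  obtain ⟨U, hU, hxU⟩ := Groth.Agent.QC.exists_affine_mem x
  rw [Scheme.IdealSheafData.mem_support_iff_of_mem (U := ⟨U, hU⟩) hxU, Scheme.mem_zeroLocus_iff]
  intro g hg hgx
  rw [h𝓘] at hg
  have hm := map_le_comap_maximal' hxU hx hg
  rw [Ideal.mem_comap, IsLocalRing.mem_maximalIdeal, mem_nonunits_iff] at hm
  exact hm ((X.mem_basicOpen g x hxU).1 hgx)

include h𝓘 in
/-- A coherent module with locally free reductions is free at the points of the closed fibre. -/
theorem free_stalk_of_thick [IsLocallyNoetherian X] {M : X.Modules} (hM : Coh.IsCoh M)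
    (h : ∀ n, FlatMod.IsFinLocFree ((Scheme.Modules.pullback (FSch.completionToX X 𝓘 n)).obj M))
    {x : X} (hx : x ∈ 𝓘.support) : Module.Free (X.presheaf.stalk x) (M.presheaf.stalk x) := by
  haveI : Module.Finite (X.presheaf.stalk x) (M.presheaf.stalk x) := RegDual.finite_stalk hM x
  obtain ⟨U, hU, hxU⟩ := Groth.Agent.QC.exists_affine_mem x
  let J : Ideal (X.presheaf.stalk x) := (I.map (W7Cech.secRing A U)).map (X.presheaf.germ U x hxU).hom
  have hrange : ∀ n, x ∈ Set.range (FSch.completionToX X 𝓘 n) := fun n => by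
    show x ∈ Set.range (𝓘 ^ (n + 1)).subschemeι
    rw [Scheme.IdealSheafData.range_subschemeι, Scheme.IdealSheafData.support_pow_succ]
    exact hx
  have hker : ∀ n (z : (FSch.completionAlong X 𝓘).X n) (hz : (FSch.completionToX X 𝓘 n) z = x),
      RingHom.ker ((FSch.completionToX X 𝓘 n).stalkMap z).hom =
        ((I ^ (n + 1)).map (W7Cech.secRing A U)).map (X.presheaf.germ U _ (hz.symm ▸ hxU)).hom := fun n z hz => by
    rw [CMFlat.ker_stalkMap_eq (FSch.completionToX X 𝓘 n) z ⟨U, hU⟩ (hz.symm ▸ hxU), ← Scheme.Hom.ker_apply,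
      ker_completionToX h𝓘]
  have hJ : J ≤ IsLocalRing.maximalIdeal (X.presheaf.stalk x) := by
    obtain ⟨z, hz⟩ := hrange 0
    subst hz
    refine IsLocalRing.le_maximalIdeal fun htop => ?_
    have h0 := hker 0 z rfl
    rw [show (I ^ (0 + 1)) = I by rw [zero_add, pow_one]] at h0
    exact RingHom.ker_ne_top ((FSch.completionToX X 𝓘 0).stalkMap z).hom (h0.trans htop)
  refine free_of_reductions J hJ fun n => ?_
  obtain ⟨z, hz⟩ := hrange n
  subst hz
  let i := FSch.completionToX X 𝓘 n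
  let e1 := ((KFlat.pullStalkIso i z).app M).toLinearEquiv
  letI : Algebra (X.presheaf.stalk (i z)) (((FSch.completionAlong X 𝓘).X n).presheaf.stalk z) :=
    (i.stalkMap z).hom.toAlgebra
  refine ⟨((FSch.completionAlong X 𝓘).X n).presheaf.stalk z, inferInstance, (i.stalkMap z).hom.toAlgebra,
    i.stalkMap_surjective z, ?_, ?_⟩
  · rw [RingHom.algebraMap_toAlgebra, ← Ideal.map_pow, ← Ideal.map_pow]
    exact hker n z rfl
  · haveI : Module.Free _ ↑((Scheme.Modules.pullback i ⋙ DerSch.stalkFunctor _ z).obj M) :=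
      LocFree.free_stalk_of_isFinLocFree (h n) z
    exact Module.Free.of_equiv e1

variable [IsNoetherianRing A] [IsAdicComplete I A] [IsProper (X ↘ Spec (CommRingCat.of A))]

include h𝓘 in
/-- A coherent module with locally free reductions is locally free. -/
theorem isFinLocFree_of_thick {M : X.Modules} (hM : Coh.IsCoh M)
    (h : ∀ n, FlatMod.IsFinLocFree ((Scheme.Modules.pullback (FSch.completionToX X 𝓘 n)).obj M)) :
    FlatMod.IsFinLocFree M := by
  let f := X ↘ Spec (CommRingCat.of A)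
  haveI : IsLocallyNoetherian X := LocallyOfFiniteType.isLocallyNoetherian f
  refine RegDual.isFinLocFree_of_free_stalk hM fun x => ?_
  have hcl : IsClosed (f '' closure {x}) := f.isClosedMap _ isClosed_closure
  obtain ⟨K, hK⟩ := (PrimeSpectrum.isClosed_iff_zeroLocus_ideal _).1 hcl
  have hfx : (f x : PrimeSpectrum A) ∈ PrimeSpectrum.zeroLocus (K : Set A) := by
    rw [← hK]; exact ⟨x, subset_closure rfl, rfl⟩
  obtain ⟨m, hm, hKm⟩ := Ideal.exists_le_maximal _ (f x : PrimeSpectrum A).isPrime.ne_top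
  have hmK : (⟨m, hm.isPrime⟩ : PrimeSpectrum A) ∈ PrimeSpectrum.zeroLocus (K : Set A) := fun a ha => hKm (hfx ha)
  rw [← hK] at hmK
  obtain ⟨z, hz, hzm⟩ := hmK
  refine free_stalk_of_specializes hM (specializes_iff_mem_closure.2 hz)
    (free_stalk_of_thick h𝓘 hM h (mem_support_of_le h𝓘 fun a ha => ?_))
  rw [PrimeSpectrum.mem_basicOpen, not_not]
  have hIm : I ≤ m := (IsAdicComplete.le_jacobson_bot I).trans fun a ha => Ideal.mem_sInf.mp ha ⟨bot_le, hm⟩
  change a ∈ (f z : PrimeSpectrum A).asIdeal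
  rw [hzm]
  exact hIm ha

include h𝓘 in
/-- Systems of locally free modules algebraize. -/
theorem exists_finLocFree (𝔐 : FSch.ModSys (FSch.completionAlong X 𝓘)) (h : LefX.LevelwiseFinLocFree 𝔐) :
    ∃ F : X.Modules, FlatMod.IsFinLocFree F ∧ Nonempty (FSch.completionMod 𝓘 F ≅ 𝔐) := by
  haveI : IsLocallyNoetherian X := LocallyOfFiniteType.isLocallyNoetherian (X ↘ Spec (CommRingCat.of A))
  have hcoh : 𝔐.IsCoh := fun n => ⟨LocFree.isQCoh_of_isFinLocFree (h n), LocFree.isFT_of_isFinLocFree (h n)⟩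
  obtain ⟨F, hF, ⟨e⟩⟩ := exists_algebraization h𝓘 𝔐 hcoh
  refine ⟨F, isFinLocFree_of_thick h𝓘 hF fun n => ?_, ⟨e⟩⟩
  exact DQCoh.isFinLocFree_of_iso' (show (Scheme.Modules.pullback (FSch.completionToX X 𝓘 n)).obj F ≅ 𝔐.F n from
    { hom := e.hom.app n
      inv := e.inv.app n
      hom_inv_id := congrArg (fun w : FSch.completionMod 𝓘 F ⟶ FSch.completionMod 𝓘 F => w.app n) e.hom_inv_id
      inv_hom_id := congrArg (fun w : 𝔐 ⟶ 𝔐 => w.app n) e.inv_hom_id }).symm (h n)

end

end Groth.Agent.ProperFEt
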