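import Groth.Agent.ProperFEt.Thicken
import Groth.Agent.LefDiv.Formal
import Groth.Agent.S0004
import Groth.Agent.RefStalk.Refl

/-!
Homomorphisms to the structure sheaf of a proper scheme over a complete base are formal ones.
-/

set_option autoImplicit false
set_option maxHeartbeats 1000000
set_option linter.style.haveILetI false
set_option backward.isDefEq.respectTransparency false
set_option backward.isDefEq.respectTransparency.types false
universe u

namespace Groth.Agent.ProperFEt

open CategoryTheory CategoryTheory.Limits AlgebraicGeometry TopologicalSpace Opposite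

noncomputable section

variable {A : Type u} [CommRing A] {X : Scheme.{u}} [X.Over (Spec (CommRingCat.of A))] {I : Ideal A}
  {𝓘 : X.IdealSheafData} (h𝓘 : ∀ V : X.affineOpens, 𝓘.ideal V = I.map (W7Cech.secRing A V.1))

include h𝓘 in
theorem ker_completionToX (n : ℕ) (V : X.affineOpens) :
    (FSch.completionToX X 𝓘 n).ker.ideal V = (I ^ (n + 1)).map (W7Cech.secRing A V.1) := by
  rw [Scheme.IdealSheafData.ker_subschemeι, Scheme.IdealSheafData.ideal_pow, Pi.pow_apply, h𝓘 V, Ideal.map_pow]

include h𝓘 in
theorem exists_quotMod_iso (n : ℕ) :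
    ∃ κ : Formal.modPow I (n + 1) (Coh.structureModule X) ≅ ClSub.quotMod (𝓘 ^ (n + 1)),
      Formal.modPowπ I (n + 1) (Coh.structureModule X) ≫ κ.hom = ClSub.toSubscheme (𝓘 ^ (n + 1)) :=
  exists_iso_structure (FSch.completionToX X 𝓘 n) (ker_completionToX h𝓘 n)

theorem completion_map_succ (M : X.Modules) (n : ℕ) :
    (Formal.completion I M).map (homOfLE (n.le_add_right 1)).op = Formal.modPowTrans I (n + 1) M :=
  Functor.ofOpSequence_map_homOfLE_succ _ n

variable [IsNoetherianRing A] [IsAdicComplete I A] [IsProper (X ↘ Spec (CommRingCat.of A))]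

include h𝓘 in
/-- A morphism of a coherent module to the structure sheaf is its family of reductions. -/
theorem homToFormal_coh {D : X.Modules} (hD : Coh.IsCoh D) : Lef.HomToFormalBijective 𝓘 D := by
  haveI : IsLocallyNoetherian X := LocallyOfFiniteType.isLocallyNoetherian (X ↘ Spec (CommRingCat.of A))
  choose κ hκ using exists_quotMod_iso h𝓘
  let O := Coh.structureModule X
  have hO : Coh.IsCoh O := Groth.Agent.RefStalk.isCoh_structureModule
  have hS := (S0004.result A I X).1 D O hD hO
  have hdesc : ∀ n (z : D ⟶ Formal.modPow I (n + 1) O),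
      ∃ g : Formal.modPow I (n + 1) D ⟶ Formal.modPow I (n + 1) O, Formal.modPowπ I (n + 1) D ≫ g = z :=
    fun n z => W7Exist.exists_desc_modPow I (n + 1) z fun a ha => by
      rw [W7Cech.smulMod_natural, W7Exist.π_smulMod I (n + 1) O a ha, comp_zero]
  have key : ∀ z : (n : ℕ) → (D ⟶ Formal.modPow I (n + 1) O),
      (∀ n, z (n + 1) ≫ Formal.modPowTrans I (n + 1) O = z n) →
      ∃! φ : D ⟶ O, ∀ n, φ ≫ Formal.modPowπ I (n + 1) O = z n := fun z hz => by
    choose g hg using fun n => hdesc n (z n)
    let Φ : Formal.completion I D ⟶ Formal.completion I O :=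
      NatTrans.ofOpSequence g fun n => by
        rw [completion_map_succ, completion_map_succ]
        show Formal.modPowTrans I (n + 1) D ≫ g n = g (n + 1) ≫ Formal.modPowTrans I (n + 1) O
        haveI : Epi (Formal.modPowπ I (n + 1 + 1) D) := by unfold Formal.modPowπ; infer_instance
        rw [← cancel_epi (Formal.modPowπ I (n + 1 + 1) D)]
        show _ = Formal.modPowπ I (n + 1 + 1) D ≫ g (n + 1) ≫ Formal.modPowTrans I (n + 1) O
        rw [← Category.assoc, Formal.modPowπ_trans, hg, ← Category.assoc, hg, hz]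
    obtain ⟨φ, h1, h2⟩ := hS Φ
    exact ⟨φ, fun n => (h1 n).symm.trans (hg n), fun ψ hψ => h2 ψ fun n => (hg n).trans (hψ n).symm⟩
  have hq : ∀ n, Formal.modPowTrans I (n + 1) O ≫ (κ n).hom =
      (κ (n + 1)).hom ≫ Lef.quotMap (Lef.pow_succ_le 𝓘 n) := fun n => by
    haveI : Epi (Formal.modPowπ I (n + 1 + 1) O) := by unfold Formal.modPowπ; infer_instance
    rw [← cancel_epi (Formal.modPowπ I (n + 1 + 1) O), ← Category.assoc, Formal.modPowπ_trans, ← Category.assoc, hκ,
      hκ, LefDiv.toSubscheme_quotMap]
  refine ⟨fun φ ψ hn => ?_, fun y hy => ?_⟩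
  · obtain ⟨χ, -, hu⟩ := key (fun n => φ ≫ Formal.modPowπ I (n + 1) O) fun n => by
      rw [Category.assoc, Formal.modPowπ_trans]
    refine (hu φ fun n => rfl).trans (hu ψ fun n => ?_).symm
    rw [← cancel_mono (κ n).hom, Category.assoc, Category.assoc, hκ]
    exact (hn n).symm
  · obtain ⟨φ, hφ, -⟩ := key (fun n => y n ≫ (κ n).inv) fun n => by
      rw [← cancel_mono (κ n).hom, Category.assoc, Category.assoc, Category.assoc, hq, Iso.inv_hom_id_assoc,
        Iso.inv_hom_id, Category.comp_id]
      exact hy n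
    exact ⟨φ, fun n => by rw [← hκ n, ← Category.assoc, hφ, Category.assoc, Iso.inv_hom_id, Category.comp_id]⟩

end

end Groth.Agent.ProperFEt
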