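import Groth.Agent.SupportLib.Unit
import Groth.Agent.GrothSS.ChangeRings
import Groth.Agent.W7Rees.Push
import Groth.Agent.W7Exist.Completion
import Groth.Agent.KFlat.ClosedImm
import Groth.Agent.QC.Localisation
import Groth.Agent.FormAlg.Thicken
import Groth.Agent.LefFEt.Compl
import Groth.Prelude.Def_FSch2

/-!
The direct image from the closed subscheme cut out by an ideal of the base ring.
-/

set_option autoImplicit false
set_option maxHeartbeats 1000000
set_option linter.style.haveILetI false
set_option backward.isDefEq.respectTransparency false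
set_option backward.isDefEq.respectTransparency.types false
universe u

namespace Groth.Agent.ProperFEt

open CategoryTheory CategoryTheory.Limits AlgebraicGeometry TopologicalSpace Opposite

noncomputable section

variable {A : Type u} [CommRing A] {X : Scheme.{u}} [X.Over (Spec (CommRingCat.of A))] {I : Ideal A} {m : ℕ}
  {Z : Scheme.{u}} (j : Z ⟶ X) [IsClosedImmersion j]
  (hj : ∀ V : X.affineOpens, j.ker.ideal V = (I ^ m).map (W7Cech.secRing A V.1))

include hj in
theorem isIso_unit_of_killed (G : X.Modules) (hG : Formal.KilledBy (I ^ m) G) :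
    IsIso ((Scheme.Modules.pullbackPushforwardAdjunction j).unit.app G) := by
  refine (SupportLib.isIso_unit_iff j G).2 fun V a ha s => ?_
  rw [hj V, Ideal.map] at ha
  induction ha using Submodule.span_induction generalizing s with
  | mem x hx =>
    obtain ⟨a, ha, rfl⟩ := hx
    exact congrArg (fun φ => φ.app V.1 s) (hG a ha)
  | zero => exact zero_smul _ s
  | add x y _ _ hx hy => rw [add_smul, hx, hy, add_zero]
  | smul c x _ hx => rw [smul_eq_mul, mul_smul, hx, smul_zero]

include hj in
theorem killedBy_push (Y : Z.Modules) : Formal.KilledBy (I ^ m) ((Scheme.Modules.pushforward j).obj Y) := by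
  intro a ha
  refine Scheme.Modules.hom_ext _ _ fun W => ?_
  ext s
  refine QC.section_eq_of_locally fun x hx => ?_
  obtain ⟨D, hD, hxD, hDle⟩ := exists_isAffineOpen_mem_and_subset (U := W) (x := x) hx
  refine ⟨D, hDle, hxD, ?_⟩
  change QC.res _ _ ((Formal.smulMod A ((Scheme.Modules.pushforward j).obj Y) a).app W s) =
    QC.res _ _ ((0 : (Scheme.Modules.pushforward j).obj Y ⟶ _).app W s)
  rw [QC.app_res, QC.app_res, FormAlg.smulMod_app]
  refine ((SupportLib.isIso_unit_iff j _).1 (FormAlg.isIso_unit_push' j Y) ⟨D, hD⟩ _ ?_ _).trans rfl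
  rw [hj ⟨D, hD⟩]
  exact Ideal.mem_map_of_mem _ ha

include hj in
/-- `G → j_*j^*G` is the quotient by `I^m`. -/
theorem exists_iso_modPow (G : X.Modules) :
    ∃ α : Formal.modPow I m G ≅
        (Scheme.Modules.pushforward j).obj ((Scheme.Modules.pullback j).obj G),
      Formal.modPowπ I m G ≫ α.hom = (Scheme.Modules.pullbackPushforwardAdjunction j).unit.app G := by
  let adj := Scheme.Modules.pullbackPushforwardAdjunction j
  obtain ⟨α, hα⟩ := W7Exist.exists_desc_modPow I m (adj.unit.app G) fun a ha => by
    rw [W7Cech.smulMod_natural]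
    exact (congrArg (adj.unit.app G ≫ ·) (killedBy_push j hj _ a ha)).trans comp_zero
  let H := Formal.modPow I m G
  have hH : Formal.KilledBy (I ^ m) H := fun a ha => by
    rw [← cancel_epi (Formal.modPowπ I m G), ← W7Cech.smulMod_natural, comp_zero]
    exact W7Exist.smulMod_π _ m G _ ha
  haveI := isIso_unit_of_killed j hj H hH
  let β := (Scheme.Modules.pushforward j).map ((Scheme.Modules.pullback j).map (Formal.modPowπ I m G)) ≫
    inv (adj.unit.app H)
  have hβ : adj.unit.app G ≫ β = Formal.modPowπ I m G := by
    have h := adj.unit.naturality (Formal.modPowπ I m G)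
    show adj.unit.app G ≫ _ ≫ inv (adj.unit.app H) = _
    rw [← Category.assoc, IsIso.comp_inv_eq]
    exact h.symm
  have h1 : α ≫ β = 𝟙 H := by
    rw [← cancel_epi (Formal.modPowπ I m G)]
    exact ((Category.assoc _ _ _).symm.trans ((congrArg (· ≫ β) hα).trans hβ)).trans (Category.comp_id _).symm
  have h2 : β ≫ α = 𝟙 _ := by
    obtain ⟨g, hg⟩ := (FormAlg.pushFF j).map_surjective (β ≫ α)
    have e : g = 𝟙 _ := by
      apply (adj.homEquiv _ _).injective
      rw [Adjunction.homEquiv_unit, Adjunction.homEquiv_unit, hg, CategoryTheory.Functor.map_id]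
      exact ((Category.assoc _ _ _).symm.trans ((congrArg (· ≫ α) hβ).trans hα)).trans (Category.comp_id _).symm
    rw [← hg, e, CategoryTheory.Functor.map_id]
  exact ⟨⟨α, β, h1, h2⟩, hα⟩

include hj in
/-- `O/I^m` is the direct image of the structure sheaf. -/
theorem exists_iso_structure :
    ∃ κ : Formal.modPow I m (Coh.structureModule X) ≅
        (Scheme.Modules.pushforward j).obj (Coh.structureModule Z),
      Formal.modPowπ I m (Coh.structureModule X) ≫ κ.hom = ClSub.unitToPush j := by
  obtain ⟨α, hα⟩ := exists_iso_modPow j hj (Coh.structureModule X)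
  refine ⟨α ≪≫ (Scheme.Modules.pushforward j).mapIso (DerPerf.pullUnitIso j), ?_⟩
  rw [Iso.trans_hom, ← Category.assoc, hα]
  exact ((Scheme.Modules.pullbackPushforwardAdjunction j).homEquiv_unit _ _ _).symm.trans
    (Equiv.apply_symm_apply _ _)

end

end Groth.Agent.ProperFEt
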