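import Groth.Agent.ProperFEt.HomFormal
import Groth.Agent.FormAlg.ModSysTower

/-!
Systems of modules on the thickenings by powers of an ideal of the base as formal systems, and back.
-/

set_option autoImplicit false
set_option maxHeartbeats 1000000
set_option linter.style.haveILetI false
set_option backward.isDefEq.respectTransparency false
set_option backward.isDefEq.respectTransparency.types false
universe u

namespace Groth.Agent.ProperFEt

open CategoryTheory CategoryTheory.Limits AlgebraicGeometry TopologicalSpace Opposite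
open Groth.Agent.FormAlg (sysObj sysFun sysTn sysFun_tn sysPull adjMap adjMap_comm completionModIso pushFF)

noncomputable section

variable {A : Type u} [CommRing A] {X : Scheme.{u}} [X.Over (Spec (CommRingCat.of A))] {I : Ideal A}
  {𝓘 : X.IdealSheafData} (h𝓘 : ∀ V : X.affineOpens, 𝓘.ideal V = I.map (W7Cech.secRing A V.1))

local notation "j" => FSch.completionToX X 𝓘

variable (𝔐 : FSch.ModSys (FSch.completionAlong X 𝓘))

include h𝓘 in
theorem isCohFormal_sysFun (hcoh : 𝔐.IsCoh) : Formal.IsCohFormal I (sysFun 𝔐) := by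
  refine ⟨fun n => ?_, fun n a ha => ?_, fun n => ?_⟩
  · haveI : (𝔐.F n).IsQuasicoherent := (hcoh n).1
    exact QC.isCoh_pushforward_of_isFinite (j n) (hcoh n).2
  · exact killedBy_push (j n) (ker_completionToX h𝓘 n) (𝔐.F n) a ha
  · obtain ⟨α, hα⟩ := exists_iso_modPow (j n) (ker_completionToX h𝓘 n) (sysObj 𝔐 (n + 1))
    have e : W7Exist.tn (sysFun 𝔐) n = Formal.modPowπ I (n + 1) (sysObj 𝔐 (n + 1)) ≫
        α.hom ≫ (Scheme.Modules.pushforward (j n)).map (sysPull 𝔐 n).hom := by
      rw [sysFun_tn, sysTn, Adjunction.homEquiv_unit, ← Category.assoc, hα]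
    have h : Formal.smulFamily (I ^ (n + 1)) (sysObj 𝔐 (n + 1)) ≫ W7Exist.tn (sysFun 𝔐) n = 0 := by
      rw [e, Formal.modPowπ, ← Category.assoc, cokernel.condition, zero_comp]
    refine ⟨h, ?_⟩
    have e2 : cokernel.desc _ (W7Exist.tn (sysFun 𝔐) n) h =
        α.hom ≫ (Scheme.Modules.pushforward (j n)).map (sysPull 𝔐 n).hom :=
      coequalizer.hom_ext ((cokernel.π_desc _ _ h).trans e)
    exact e2 ▸ inferInstanceAs (IsIso (α.hom ≫ ((Scheme.Modules.pushforward (j n)).mapIso (sysPull 𝔐 n)).hom))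

variable (F : X.Modules)

include h𝓘 in
theorem isIso_adjMap (n : ℕ) (α : Formal.modPow I (n + 1) F ≅ sysObj 𝔐 n) :
    IsIso (adjMap 𝔐 F n (Formal.modPowπ I (n + 1) F ≫ α.hom)) := by
  obtain ⟨β, hβ⟩ := exists_iso_modPow (j n) (ker_completionToX h𝓘 n) F
  have e : (Scheme.Modules.pushforward (j n)).map (adjMap 𝔐 F n (Formal.modPowπ I (n + 1) F ≫ α.hom)) =
      β.inv ≫ α.hom := by
    rw [Iso.eq_inv_comp]
    refine coequalizer.hom_ext ?_
    show Formal.modPowπ I (n + 1) F ≫ _ ≫ _ = Formal.modPowπ I (n + 1) F ≫ α.hom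
    rw [← Category.assoc, hβ]
    exact ((Scheme.Modules.pullbackPushforwardAdjunction (j n)).homEquiv_unit _ _ _).symm.trans (Equiv.apply_symm_apply _ _)
  haveI : IsIso ((Scheme.Modules.pushforward (j n)).map (adjMap 𝔐 F n (Formal.modPowπ I (n + 1) F ≫ α.hom))) := by
    rw [e]; infer_instance
  haveI := (pushFF (j n)).full
  haveI := (pushFF (j n)).faithful
  exact isIso_of_reflects_iso _ (Scheme.Modules.pushforward (j n))

include h𝓘 in
/-- An algebraization of the system algebraizes the module system. -/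
theorem nonempty_completionMod_iso (α : Formal.completion I F ≅ sysFun 𝔐) :
    Nonempty (FSch.completionMod 𝓘 F ≅ 𝔐) := by
  let φ : ∀ n, F ⟶ sysObj 𝔐 n := fun n => Formal.modPowπ I (n + 1) F ≫ α.hom.app (op n)
  have hφ : ∀ n, φ (n + 1) ≫ sysTn 𝔐 n = φ n := fun n => by
    show (_ ≫ α.hom.app (op (n + 1))) ≫ sysTn 𝔐 n = _
    rw [← sysFun_tn, Category.assoc]
    refine (congrArg (_ ≫ ·) (α.hom.naturality (homOfLE (Nat.le_succ n)).op).symm).trans ?_
    rw [← Category.assoc]
    refine congrArg (· ≫ α.hom.app (op n)) ?_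
    rw [show (Formal.completion I F).map (homOfLE (Nat.le_succ n)).op =
      Formal.modPowTrans I (n + 1) F from Functor.ofOpSequence_map_homOfLE_succ _ n]
    exact Formal.modPowπ_trans I (n + 1) F
  exact ⟨completionModIso 𝔐 F (fun n => @asIso _ _ _ _ (adjMap 𝔐 F n (φ n)) (isIso_adjMap h𝓘 𝔐 F n (α.app (op n))))
    (adjMap_comm 𝔐 F φ hφ)⟩

variable [IsNoetherianRing A] [IsAdicComplete I A] [IsProper (X ↘ Spec (CommRingCat.of A))]

include h𝓘 in
/-- Coherent systems algebraize. -/
theorem exists_algebraization (hcoh : 𝔐.IsCoh) :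
    ∃ F : X.Modules, Coh.IsCoh F ∧ Nonempty (FSch.completionMod 𝓘 F ≅ 𝔐) := by
  obtain ⟨F, hF, ⟨α⟩⟩ := (S0004.result A I X).2 _ (isCohFormal_sysFun h𝓘 𝔐 hcoh)
  exact ⟨F, hF, nonempty_completionMod_iso h𝓘 𝔐 F α⟩

end

end Groth.Agent.ProperFEt
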